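import Groth.Agent.Lib.IdealMul.Generic
import Groth.Agent.Lib.ModM1.Ann
import Groth.Agent.Lib.ModM1.FibreProd

/-!
# An ideal sheaf with `J • P` meeting a given submodule trivially

For a coherent `P` on a locally Noetherian scheme and a quasi-coherent submodule `K`, put `J₀ = ⊤`,
`J (k+1) = J k * Ann (J k • P ⊓ K)`. On each affine open the sequence is eventually constant by Artin–Rees, the
limit `J` satisfies `J • P ⊓ K = ⊥`, and `J = ⊤` on affine opens where `K` has no sections.
-/

set_option autoImplicit false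
set_option linter.style.haveILetI false
set_option backward.isDefEq.respectTransparency false
universe u

open CategoryTheory CategoryTheory.Limits AlgebraicGeometry Opposite

namespace Groth.Agent.ExtendLN12

open IdealMulL

section Seq

variable {X : Scheme.{u}} [IsLocallyNoetherian X] {P : X.Modules} (hP : Coh.IsCoh P) (K : M1.Sub P)
  (hK : Coh.IsQCoh K.P)

include hP hK in
lemma isCoh_interS_idl (I : X.IdealSheafData) : Coh.IsCoh (interS (idl P I) K).P :=
  M1.isCoh_of_mono (interS (idl P I) K).i hP (isQCoh_interS hP.1 _ _ (isQCoh_idl P I hP.1) hK)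

/-- The sequence of ideal sheaves. -/
noncomputable def seq : ℕ → X.IdealSheafData
  | 0 => ⊤
  | k + 1 => seq k * M1.annSheaf (isCoh_interS_idl hP K hK (seq k)).1 (isCoh_interS_idl hP K hK (seq k)).2

/-- The sections of `J k • P ⊓ K` over an affine open. -/
noncomputable def inter (W : X.affineOpens) (k : ℕ) : Submodule Γ(X, W.1) Γ(P, W.1) :=
  (seq hP K hK k).ideal W • ⊤ ⊓ secSub K W.1

lemma secSub_interS_idl (W : X.affineOpens) (k : ℕ) :
    secSub (interS (idl P (seq hP K hK k)) K) W.1 = inter hP K hK W k := by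
  haveI := hP.1
  rw [secSub_interS, secSub_idl]; rfl

lemma seq_zero_ideal (W : X.affineOpens) : (seq hP K hK 0).ideal W = ⊤ := by
  rw [seq, Scheme.IdealSheafData.ideal_top]
  rfl

lemma seq_succ_ideal (W : X.affineOpens) (k : ℕ) :
    (seq hP K hK (k + 1)).ideal W = (seq hP K hK k).ideal W * (inter hP K hK W k).annihilator := by
  rw [seq, Scheme.IdealSheafData.ideal_mul, Pi.mul_apply, M1.annSheaf_ideal]
  congr 1
  ext a
  rw [Module.mem_annihilator, Submodule.mem_annihilator, ← secSub_interS_idl]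
  constructor
  · rintro h _ ⟨t, rfl⟩
    rw [← map_smul, h t, map_zero]
  · intro h t
    refine M1.app_injective (interS (idl P (seq hP K hK k)) K).i W.1 ?_
    rw [Scheme.Modules.Hom.app_smul, map_zero]
    exact h _ ⟨t, rfl⟩

lemma seq_ideal_anti (W : X.affineOpens) : Antitone fun k => (seq hP K hK k).ideal W :=
  antitone_nat_of_succ_le fun k => (seq_succ_ideal hP K hK W k).le.trans Ideal.mul_le_left

lemma inter_anti (W : X.affineOpens) : Antitone (inter hP K hK W) := fun a b h =>
  inf_le_inf_right _ (Submodule.smul_mono_left (seq_ideal_anti hP K hK W h))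

/-- On an affine open the sequence eventually kills `K`. -/
lemma exists_inter_eq_bot (W : X.affineOpens) : ∃ M, inter hP K hK W M = ⊥ := by
  haveI : IsNoetherianRing Γ(X, W.1) := IsLocallyNoetherian.component_noetherian W
  haveI : Module.Finite Γ(X, W.1) Γ(P, W.1) := M1.finite_sections hP.1 hP.2 W.2
  obtain ⟨N, hN⟩ := monotone_stabilizes_iff_noetherian.mpr (inferInstanceAs (IsNoetherian Γ(X, W.1) Γ(X, W.1)))
    ⟨fun k => (inter hP K hK W k).annihilator,
      fun a b h => Submodule.annihilator_mono (inter_anti hP K hK W h)⟩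
  let a := (inter hP K hK W N).annihilator
  have hseq : ∀ i, (seq hP K hK (N + i)).ideal W = (seq hP K hK N).ideal W * a ^ i := by
    intro i
    induction i with
    | zero => simp
    | succ i ih =>
      rw [← Nat.add_assoc, seq_succ_ideal, ih, pow_succ, ← mul_assoc]
      exact congrArg _ (hN (N + i) (Nat.le_add_right _ _)).symm
  obtain ⟨c, hc⟩ := Ideal.exists_pow_inf_eq_pow_smul a (inter hP K hK W N)
  refine ⟨N + (c + 1), eq_bot_iff.2 ?_⟩
  have h1 : inter hP K hK W (N + (c + 1)) ≤ a ^ (c + 1) • ⊤ ⊓ inter hP K hK W N :=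
    le_inf (inf_le_left.trans (Submodule.smul_mono_left ((hseq _).le.trans Ideal.mul_le_right)))
      (inter_anti hP K hK W (Nat.le_add_right _ _))
  refine h1.trans ?_
  rw [hc (c + 1) (Nat.le_succ c), Nat.add_sub_cancel_left, pow_one]
  refine Submodule.smul_le.2 fun r hr s hs => ?_
  rw [Submodule.mem_bot]
  exact Submodule.mem_annihilator.1 hr s hs.2

lemma exists_stable (W : X.affineOpens) : ∃ M, inter hP K hK W M = ⊥ ∧
    ∀ k, M ≤ k → (seq hP K hK k).ideal W = (seq hP K hK M).ideal W := by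
  obtain ⟨M, hM⟩ := exists_inter_eq_bot hP K hK W
  refine ⟨M, hM, fun k hk => ?_⟩
  induction k, hk using Nat.le_induction with
  | base => rfl
  | succ k hk ih =>
    have : inter hP K hK W k = ⊥ := eq_bot_iff.2 ((inter_anti hP K hK W hk).trans hM.le)
    rw [seq_succ_ideal, this, Submodule.annihilator_bot, Ideal.mul_top, ih]

lemma exists_iInf (W : X.affineOpens) : ∃ M, inter hP K hK W M = ⊥ ∧
    ∀ k, M ≤ k → ⨅ i, (seq hP K hK i).ideal W = (seq hP K hK k).ideal W := by
  obtain ⟨M, hM, hs⟩ := exists_stable hP K hK W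
  refine ⟨M, hM, fun k hk => le_antisymm (iInf_le _ k) (le_iInf fun i => ?_)⟩
  rw [hs k hk]
  rcases le_total i M with h | h
  · exact seq_ideal_anti hP K hK W h
  · exact (hs i h).ge

/-- The limit of the sequence. -/
noncomputable def lim : X.IdealSheafData where
  ideal W := ⨅ i, (seq hP K hK i).ideal W
  map_ideal_basicOpen W f := by
    obtain ⟨M₁, -, h₁⟩ := exists_iInf hP K hK W
    obtain ⟨M₂, -, h₂⟩ := exists_iInf hP K hK (X.affineBasicOpen f)
    rw [h₁ _ (le_max_left M₁ M₂), h₂ _ (le_max_right M₁ M₂)]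
    exact (seq hP K hK (max M₁ M₂)).map_ideal_basicOpen W f

/-- `J • P` meets `K` trivially. -/
theorem lim_inter (W : X.affineOpens) :
    ((lim hP K hK).ideal W • ⊤ ⊓ secSub K W.1 : Submodule Γ(X, W.1) Γ(P, W.1)) = ⊥ := by
  obtain ⟨M, hM, h⟩ := exists_iInf hP K hK W
  show (⨅ i, (seq hP K hK i).ideal W) • (⊤ : Submodule Γ(X, W.1) Γ(P, W.1)) ⊓ secSub K W.1 = ⊥
  rw [h M le_rfl]
  exact hM

/-- `J` is trivial where `K` is. -/
theorem lim_eq_top (W : X.affineOpens) (h : secSub K W.1 = ⊥) : (lim hP K hK).ideal W = ⊤ := by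
  refine iInf_eq_top.2 fun k => ?_
  induction k with
  | zero => exact seq_zero_ideal hP K hK W
  | succ k ih =>
    rw [seq_succ_ideal, ih, inter, h, inf_bot_eq, Submodule.annihilator_bot, Ideal.mul_top]

end Seq

/-- Morphisms of coherent modules on an open extend to a coherent submodule. -/
theorem exists_extend {X : Scheme.{u}} [IsLocallyNoetherian X] (F G : X.Modules)
    (hF : Coh.IsCoh F) (hG : Coh.IsCoh G) (U : X.Opens)
    (φ : (Scheme.Modules.restrictFunctor U.ι).obj F ⟶ (Scheme.Modules.restrictFunctor U.ι).obj G) :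
    ∃ (F' : X.Modules) (ι : F' ⟶ F) (φ' : F' ⟶ G), Mono ι ∧ Coh.IsCoh F' ∧
      IsIso ((Scheme.Modules.restrictFunctor U.ι).map ι) ∧
      (Scheme.Modules.restrictFunctor U.ι).map φ' = (Scheme.Modules.restrictFunctor U.ι).map ι ≫ φ := by
  let R := Scheme.Modules.restrictFunctor U.ι
  let adj := Scheme.Modules.restrictAdjunction U.ι
  haveI : QuasiCompact U.ι := inferInstance
  let B := (Scheme.Modules.pushforward U.ι).obj (R.obj G)
  have hB : Coh.IsQCoh B := M1.isQCoh_push U.ι (M1.isQCoh_restrict hG.1 U.ι)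
  let η : G ⟶ B := adj.unit.app G
  let a : F ⟶ B := adj.homEquiv F (R.obj G) φ
  let P := pullback a η
  let p : P ⟶ F := pullback.fst a η
  let q : P ⟶ G := pullback.snd a η
  have hP : Coh.IsCoh P := M1.isCoh_fibreProd hF hG hB a η
  have hηiso : IsIso (R.map η) := M1.isIso_restrict_unit U.ι G
  haveI hp : IsIso (R.map p) := M1.isIso_restrict_fst a η U.ι hηiso
  have hRq : R.map q = R.map p ≫ φ := (adj.homEquiv P (R.obj G)).injective (by
    rw [adj.homEquiv_naturality_left]
    refine Eq.trans ?_ (pullback.condition (f := a) (g := η)).symm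
    rw [adj.homEquiv_unit]
    exact (adj.unit.naturality q).symm)
  let K := M1.Sub.ker p
  have hK : Coh.IsQCoh K.P := M1.isQCoh_kernel hP.1 hF.1 p
  have hKU : ∀ W : X.affineOpens, W.1 ≤ U → secSub K W.1 = ⊥ := by
    intro W hW
    refine eq_bot_iff.2 ?_
    rintro _ ⟨t, rfl⟩
    refine (Submodule.mem_bot _).2 (IdealMulL.app_eq_zero_of_restrict (kernel.ι p) ?_ hW t)
    rw [← cancel_mono (R.map p), zero_comp]
    show R.map (kernel.ι p) ≫ R.map p = 0
    rw [← R.map_comp, kernel.condition, R.map_zero]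
  let J := lim hP K hK
  let P' := (Dual3.idealMul J).obj P
  haveI := hP.1
  haveI hP'q : Coh.IsQCoh P' := isQCoh_idl P J hP.1
  let g : P' ⟶ F := Dual3.idealMulι J P ≫ p
  haveI hmono : Mono g := by
    refine Preadditive.mono_of_kernel_zero ?_
    haveI : Coh.IsQCoh (kernel g) := M1.isQCoh_kernel hP'q hF.1 g
    obtain ⟨c', hc'⟩ := exists_lift_affine (kernel.ι g) (M1.Sub.ker (𝟙 P')) (fun W : X.affineOpens => W)
      (fun x => by
        obtain ⟨W, hW, hxW, -⟩ := exists_isAffineOpen_mem_and_subset (show x ∈ (⊤ : X.Opens) from trivial)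
        exact ⟨⟨W, hW⟩, hxW⟩) fun W t => by
      rw [M1.Sub.mem_ker]
      show (kernel.ι g).app W.1 t = 0
      refine M1.app_injective (Dual3.idealMulι J P) W.1 ?_
      rw [map_zero]
      refine (Submodule.mem_bot Γ(X, W.1)).1 ((lim_inter hP K hK W).le ⟨?_, ?_⟩)
      · rw [SetLike.mem_coe, ← mem_idl]; exact ⟨_, rfl⟩
      · refine (M1.Sub.mem_ker p _ _).2 ?_
        rw [← M1.comp_app_apply, ← M1.comp_app_apply, kernel.condition]
        rfl
    have h0 : (M1.Sub.ker (𝟙 P')).i = 0 := by
      have := kernel.condition (𝟙 P')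
      rwa [Category.comp_id] at this
    rw [← hc', h0, comp_zero]
  haveI hidl : IsIso (R.map (Dual3.idealMulι J P)) := by
    refine isIso_restrict_map _ U fun x hx => bijective_stL_idl J ?_
    obtain ⟨W, hW, hxW, hWU⟩ := exists_isAffineOpen_mem_and_subset hx
    rw [SetLike.mem_coe, Scheme.IdealSheafData.mem_support_iff_of_mem (U := ⟨W, hW⟩) hxW,
      Scheme.mem_zeroLocus_iff, lim_eq_top hP K hK ⟨W, hW⟩ (hKU ⟨W, hW⟩ hWU)]
    intro h
    exact h 1 Submodule.mem_top (by rw [X.basicOpen_of_isUnit isUnit_one]; exact hxW)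
  refine ⟨P', g, Dual3.idealMulι J P ≫ q, hmono, M1.isCoh_of_mono g hF hP'q, ?_, ?_⟩
  · show IsIso (R.map g)
    rw [R.map_comp]; infer_instance
  · show R.map _ = R.map g ≫ φ
    rw [R.map_comp, R.map_comp, hRq, Category.assoc]

end Groth.Agent.ExtendLN12
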